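import Groth.Agent.DepthExt5.Crit
import Groth.Agent.DepthPt5.Main
import Groth.Agent.GalCd5.Split
import Groth.Agent.GalCd5.Basic

/-! depth of a finite locally constant ℓ-torsion sheaf is at least that of `ℤ/ℓ` -/

set_option autoImplicit false
set_option linter.unusedSectionVars false
set_option linter.style.haveILetI false
set_option backward.isDefEq.respectTransparency false
set_option backward.isDefEq.respectTransparency.types false

universe u

open CategoryTheory CategoryTheory.Limits AlgebraicGeometry Opposite IsLocalRing CategoryTheory.Abelian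

noncomputable section

namespace Groth.Agent.DepthFlc5

open Groth.Agent.EtFound Groth.Agent.DepthExt5 Groth.Agent.GalCd5

attribute [local instance] EtFound.pull_preservesFiniteLimits

section depth

variable {X U : Scheme.{u}} (j : U ⟶ X) [IsOpenImmersion j] [EtCoh.BCCont j]

theorem depthGE_of_iso {F G : EtCoh.Ab X} (e : F ≅ G) (n : ℕ) (h : EtDepth.DepthGE j F n) :
    EtDepth.DepthGE j G n := fun p hp => (h p hp).of_iso ((EtDual.locCoh j p).mapIso e).symm

theorem depthGE_of_shortExact {S : ShortComplex (EtCoh.Ab X)} (hS : S.ShortExact) (n : ℕ)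
    (h₁ : EtDepth.DepthGE j S.X₁ n) (h₃ : EtDepth.DepthGE j S.X₃ n) : EtDepth.DepthGE j S.X₂ n := by
  refine (depthGE_iff j S.X₂ n).2 fun X' g _ _ => (restriction_iff (pullback.snd j g) _ n).2 fun p hp => ?_
  haveI := LocCohLib.pull_additive g
  haveI := (EtCoh.pullPushAdj g).leftAdjoint_preservesColimits
  haveI : PreservesFiniteColimits (EtCoh.pull g) := inferInstance
  have hS' := hS.map_of_exact (EtCoh.pull g)
  have a₁ := subsingleton_ext_of_depthGE j g (pullback.snd j g) (Scheme.Pullback.range_snd j g) S.X₁ n h₁ p hp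
  have a₃ := subsingleton_ext_of_depthGE j g (pullback.snd j g) (Scheme.Pullback.range_snd j g) S.X₃ n h₃ p hp
  refine subsingleton_of_forall_eq 0 fun x => ?_
  obtain ⟨x₁, hx₁⟩ := Ext.covariant_sequence_exact₂ _ hS' x (a₃.elim _ _)
  rw [← hx₁, a₁.elim x₁ 0, Ext.zero_comp]

theorem depthGE_const (ℓ : ℕ) (hℓ : ℓ.Prime) (n : ℕ)
    (h : EtDepth.DepthGE j (EtCoh.const X (ZMod ℓ)) n) :
    ∀ (c : ℕ) (M : Type) [AddCommGroup M] [Finite M] (a : ℕ), (∀ x : M, (ℓ ^ a) • x = 0) → Nat.card M = c →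
      EtDepth.DepthGE j (EtCoh.const X M) n := by
  intro c
  induction c using Nat.strong_induction_on with
  | _ c ih =>
    intro M _ _ a ha hc
    rcases subsingleton_or_nontrivial M with hM | hM
    · have h0 : 1 • 𝟙 (EtCoh.const X M) = 0 := killed_const X 1 fun x => Subsingleton.elim _ _
      rw [one_nsmul] at h0
      exact fun p _ => ((EtDual.secSupp j).rightDerived p).map_isZero ((IsZero.iff_id_eq_zero _).2 h0)
    · obtain ⟨ψ, hψ⟩ := exists_surjection_zmod ℓ hℓ M a ha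
      obtain ⟨w, hS⟩ := shortExact_const X ψ hψ
      refine depthGE_of_shortExact j hS n ?_ h
      refine ih _ ?_ ψ.ker a (fun x => Subtype.ext (ha x.1)) rfl
      have e := AddSubgroup.card_eq_card_quotient_mul_card_addSubgroup ψ.ker
      have e' : Nat.card (M ⧸ ψ.ker) = ℓ := by
        rw [Nat.card_congr (QuotientAddGroup.quotientKerEquivOfSurjective ψ hψ).toEquiv, Nat.card_zmod]
      rw [e', hc] at e
      rw [e]
      exact lt_mul_of_one_lt_left Nat.card_pos hℓ.one_lt

end depth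

theorem exists_iso_const_strictHens {X : Scheme.{u}} (F : EtCoh.Ab X) (hF : EtCoh.IsFiniteLocallyConstant F)
    (ℓ : ℕ) (hFt : EtDepth.IsLTorsion ℓ F) (R : Type u) [CommRing R] [IsLocalRing R] [HenselianLocalRing R]
    [IsSepClosed (ResidueField R)] (h : Spec (CommRingCat.of R) ⟶ X) :
    ∃ (M : Type) (_ : AddCommGroup M) (_ : Finite M) (a : ℕ), (∀ x : M, (ℓ ^ a) • x = 0) ∧
      Nonempty ((EtCoh.pull h).obj F ≅ EtCoh.const (Spec (CommRingCat.of R)) M) := by
  obtain ⟨ι, U, hcov, hiso⟩ := hF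
  obtain ⟨i, t, ht⟩ := hcov (h.base (closedPoint R))
  obtain ⟨M, iM, fM, ⟨e⟩⟩ := hiso i
  obtain ⟨φ, hφ⟩ := exists_constBy e
  haveI : AlgebraicGeometry.Etale (U i).hom := (U i).prop
  have hval : (U i).hom.base t = (cpt R ≫ h).base (default : Spec (CommRingCat.of (ResidueField R))) := by
    rw [Scheme.Hom.comp_apply, cpt_base]; exact ht
  obtain ⟨u, hu, -⟩ := Scheme.exists_fac_of_etale_of_isSepClosed (U i).hom (cpt R ≫ h) t hval
  let Z := (EtCoh.bc h).obj (U i)
  haveI : AlgebraicGeometry.Etale Z.hom := Z.prop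
  obtain ⟨σ, ⟨hσ, -⟩, -⟩ := existsUnique_section R Z.hom (pullback.lift u (cpt R) hu) (pullback.lift_snd _ _ _)
  let g : EtCoh.top (Spec (CommRingCat.of R)) ⟶ Z := MorphismProperty.Over.homMk σ hσ
  have hG := (constBy_pull h hφ).restrict g
  have eG := exists_iso_const_of_constBy (G := (EtCoh.pull h).obj F) M _ hG
  have htors : ∀ m : M, ∃ k : ℕ, (ℓ ^ k) • m = 0 := fun m => by
    obtain ⟨V, g', ⟨v, hv⟩, k, hk⟩ := hFt (U i) (φ ⟨m⟩) t
    refine ⟨k, ?_⟩
    obtain ⟨Ω, _, _, ξ, z, -⟩ := exists_algClosed_point V v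
    have hb := hφ Ω ξ ((Scheme.pointSmallEtale ξ).fiber.map g' z)
    refine congrArg ULift.down (hb.1 (a₁ := (ℓ ^ k) • (⟨m⟩ : ULift.{u + 1} M)) (a₂ := 0) ?_)
    rw [map_zero, map_nsmul]
    show (ℓ ^ k) • (Scheme.pointSmallEtale ξ).toPresheafFiber (U i) _ F.obj (φ ⟨m⟩) = 0
    rw [← (Scheme.pointSmallEtale ξ).toPresheafFiber_w_apply, ← map_nsmul, hk, map_zero]
  choose k hk using htors
  haveI := Fintype.ofFinite M
  refine ⟨M, iM, fM, Finset.univ.sup k, fun x => ?_, eG⟩
  obtain ⟨d, hd⟩ := Nat.le.dest (Finset.le_sup (f := k) (Finset.mem_univ x))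
  rw [← hd, pow_add, mul_comm, mul_smul, hk, smul_zero]

theorem main {X U : Scheme.{u}} (j : U ⟶ X) [IsOpenImmersion j] [QuasiCompact j] [EtCoh.BCCont j] (ℓ : ℕ)
    (hℓ : ℓ.Prime) (n : ℕ) (hX : EtDepth.DepthGE j (EtCoh.const X (ZMod ℓ)) n) (F : EtCoh.Ab X)
    (hFlc : EtCoh.IsFiniteLocallyConstant F) (hFt : EtDepth.IsLTorsion ℓ F) : EtDepth.DepthGE j F n := by
  refine (DepthPt5.depthGE_iff_depthAtGE j F n).2 fun y hy R _ _ _ _ hR => ?_
  haveI : IsSepClosed (ResidueField R) := BcQCalc.isSepClosed_residueField_of_strict (X.presheaf.stalk y) R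
  haveI : HenselianLocalRing R := _root_.Hensel.IsStrictHenselization.henselian (R := X.presheaf.stalk y)
  obtain ⟨M, _, _, a, ha, ⟨e⟩⟩ := exists_iso_const_strictHens F hFlc ℓ hFt R (Hens2.specOf X y R)
  refine depthGE_of_iso _ e.symm n (depthGE_const _ ℓ hℓ n ?_ _ M a ha rfl)
  exact depthGE_of_iso _ (EtCore.pullConst (Hens2.specOf X y R) (ZMod ℓ)) n
    ((DepthPt5.depthGE_iff_depthAtGE j _ n).1 hX y hy R)

end Groth.Agent.DepthFlc5
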